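import Groth.Agent.S9791
import Mathlib

/-!
# Birational characterization of the normalization of an integral scheme
-/

set_option autoImplicit false
set_option backward.isDefEq.respectTransparency.types false

universe u

open CategoryTheory CategoryTheory.Limits AlgebraicGeometry

namespace Groth.Agent.NormChar5

variable {X : Scheme.{u}} [IsIntegral X]
    [QuasiCompact (X.fromSpecStalk (genericPoint X))] [QuasiSeparated (X.fromSpecStalk (genericPoint X))]

theorem exists_section {Y : Scheme.{u}} (f : Y ⟶ X) (y : Y) (x : X) (hx : f y = x) [IsIso (f.stalkMap y)] :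
    ∃ s : Spec (X.presheaf.stalk x) ⟶ Y, s ≫ f = X.fromSpecStalk x ∧ y ∈ Set.range s := by
  subst hx
  refine ⟨Spec.map (inv (f.stalkMap y)) ≫ Y.fromSpecStalk y, ?_, ?_⟩
  · rw [Category.assoc, ← Scheme.SpecMap_stalkMap_fromSpecStalk, ← Spec.map_comp_assoc, IsIso.hom_inv_id, Spec.map_id,
      Category.id_comp]
  · obtain ⟨z, hz⟩ : ∃ z, Spec.map (inv (f.stalkMap y)) z = IsLocalRing.closedPoint (Y.presheaf.stalk y) :=
      (Spec.map (inv (f.stalkMap y))).homeomorph.surjective _
    exact ⟨z, by rw [Scheme.Hom.comp_apply, hz, Scheme.fromSpecStalk_closedPoint]⟩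

/-- A normal, integral, birational scheme over `X` is the normalization. -/
theorem exists_iso_of_birational {Y : Scheme.{u}} (f : Y ⟶ X) [IsIntegralHom f] (hY : Pi1.IsNormalScheme Y)
    [IrreducibleSpace Y] (hgen : f (genericPoint Y) = genericPoint X) [IsIso (f.stalkMap (genericPoint Y))] :
    ∃ e : Y ≅ Curv2.normalization X, e.hom ≫ Curv2.normalizationι X = f := by
  haveI := NormUP12.isReduced_of_normal hY
  haveI : IsIntegral Y := isIntegral_of_irreducibleSpace_of_isReduced Y
  let g := X.fromSpecStalk (genericPoint X)
  obtain ⟨hNi, hNn⟩ := CurveNF.isIntegral_and_normal (g := g) NormUP12.id_hg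
  obtain ⟨h, hh, -⟩ := NormUP12.existsUnique_fac (g := f) hY fun z hz => by
    rw [← GeomIrr.isMaximalPt_of_closure_mem hz _ (genericPoint_specializes z), hgen]
  obtain ⟨s, hs, hsy⟩ := exists_section f (genericPoint Y) (genericPoint X) hgen
  haveI : IsDominant s := ⟨by
    rw [DenseRange, dense_iff_closure_eq, ← Set.univ_subset_iff, ← (genericPoint_spec Y).def]
    exact closure_mono (Set.singleton_subset_iff.2 hsy)⟩
  let l : Curv2.normalization X ⟶ Y := g.normalizationDesc s f hs.symm
  have hl : l ≫ f = Curv2.normalizationι X := g.normalizationDesc_comp s f hs.symm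
  have hls : g.toNormalization ≫ l = s := g.toNormalization_normalizationDesc s f hs.symm
  have hdX : ∀ z : Curv2.normalization X, closure {z} ∈ irreducibleComponents (Curv2.normalization X) →
      Curv2.normalizationι X z = genericPoint X := by
    intro z hz
    rw [← GeomIrr.isMaximalPt_of_closure_mem hz _ (genericPoint_specializes z)]
    exact CurveNF.fromNormalization_genericPoint (g := g) NormUP12.id_hg
  have hlh : l ≫ h = 𝟙 _ := (NormUP12.existsUnique_fac (g := Curv2.normalizationι X) hNn hdX).unique
    (by rw [Category.assoc, hh, hl]) (Category.id_comp _)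
  have hhl : h ≫ l = 𝟙 Y := by
    refine ext_of_isDominant_of_isSeparated f (by rw [Category.assoc, hl, hh, Category.id_comp]) s ?_
    rw [Category.comp_id, ← hls, Category.assoc]
    exact congrArg (g.toNormalization ≫ ·)
      ((Category.assoc _ _ _).symm.trans ((congrArg (· ≫ l) hlh).trans (Category.id_comp l)))
  exact ⟨⟨h, l, hhl, hlh⟩, hh⟩

theorem isIso_comp_stalkClosedPointTo {R : CommRingCat.{u}} [IsLocalRing R] {N Z : Scheme.{u}} {t : Spec R ⟶ N}
    {ν : N ⟶ Z} {g : Spec R ⟶ Z} (h : t ≫ ν = g) [IsIso (Scheme.stalkClosedPointTo g)] :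
    IsIso (ν.stalkMap (t (IsLocalRing.closedPoint R)) ≫ Scheme.stalkClosedPointTo t) := by
  subst h
  rw [← Scheme.stalkClosedPointTo_comp]
  assumption

/-- The normalization is birational. -/
theorem isIso_stalkMap_generic :
    IsIso ((Curv2.normalizationι X).stalkMap (genericPoint (Curv2.normalization X))) := by
  let g := X.fromSpecStalk (genericPoint X)
  haveI hNi : IsIntegral g.normalization :=
    (CurveNF.isIntegral_and_normal (g := g) NormUP12.id_hg).1
  have key : ∀ z, z = g.toNormalization (IsLocalRing.closedPoint (X.presheaf.stalk (genericPoint X))) →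
      IsIso (g.fromNormalization.stalkMap z) := by
    rintro _ rfl
    haveI : IsIso (Scheme.stalkClosedPointTo g) := by
      rw [Scheme.stalkClosedPointTo_fromSpecStalk]
      infer_instance
    haveI h1 := isIso_comp_stalkClosedPointTo (g := g) g.toNormalization_fromNormalization
    have hinj : Function.Injective (Scheme.stalkClosedPointTo g.toNormalization) :=
      CurveNF.stalkClosedPointTo_injective (K := X.functionField) (g := g)
    haveI : IsIso (Scheme.stalkClosedPointTo g.toNormalization) := by
      rw [ConcreteCategory.isIso_iff_bijective]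
      exact ⟨hinj, Function.Surjective.of_comp ((ConcreteCategory.bijective_of_isIso
        (g.fromNormalization.stalkMap (g.toNormalization (IsLocalRing.closedPoint (X.presheaf.stalk (genericPoint X)))) ≫
          Scheme.stalkClosedPointTo g.toNormalization)).2)⟩
    exact IsIso.of_isIso_comp_right _ (Scheme.stalkClosedPointTo g.toNormalization)
  exact key _ (CurveNF.toNormalization_closedPoint (K := X.functionField) (g := g)).symm

theorem isNormal_of_iso {Y Z : Scheme.{u}} (e : Y ⟶ Z) [IsIso e] (h : Pi1.IsNormalScheme Z) :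
    Pi1.IsNormalScheme Y := fun y => by
  obtain ⟨hd, hc⟩ := h (e y)
  let φ := (asIso (e.stalkMap y)).commRingCatIsoToRingEquiv
  haveI : IsDomain (Y.presheaf.stalk y) := φ.symm.injective.isDomain φ.symm.toRingHom
  exact ⟨inferInstance, IsIntegrallyClosed.of_equiv φ⟩

end Groth.Agent.NormChar5
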